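import Mathlib.CategoryTheory.Adjunction.Evaluation
import Mathlib.CategoryTheory.Generator.Presheaf
import Mathlib.CategoryTheory.Abelian.GrothendieckAxioms.Sheaf
import Mathlib.CategoryTheory.Sites.Sheafification
import Mathlib.Order.WithBot
import Mathlib.Algebra.Order.Ring.Int

/-!
# Diagrams over a thin category: evaluation and injective objects
-/

set_option autoImplicit false

universe v u

open CategoryTheory Limits Opposite

noncomputable section

namespace Groth.Agent.FilKInj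

/-- The indexing category of steps of a filtration, with a top element for the whole object. -/
abbrev P : Type v := ULift.{v} (WithTop ℤ)

variable {A : Type u} [Category.{v} A] [Abelian A] [IsGrothendieckAbelian.{v} A]

theorem isGrothendieckAbelian_diagrams : IsGrothendieckAbelian.{v} (P.{v}ᵒᵖ ⥤ A) :=
  haveI : HasSheafify (⊥ : GrothendieckTopology P.{v}) A := inferInstance
  IsGrothendieckAbelian.of_equivalence (sheafBotEquivalence A (C := P.{v}))

theorem mono_of_sourceEmpty {I : Type v} [IsEmpty I] {X : A} {Y : A} (m : (∐ fun _ : I => X) ⟶ Y) :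
    Mono m := by
  refine ⟨fun a b _ => IsZero.eq_of_tgt ?_ a b⟩
  refine (IsZero.iff_id_eq_zero _).2 ?_
  ext i
  exact IsEmpty.elim ‹_› i

/-- The left adjoint of evaluation preserves monomorphisms. -/
instance preservesMonomorphisms_evaluationLeftAdjoint (c : P.{v}ᵒᵖ) :
    (evaluationLeftAdjoint A c).PreservesMonomorphisms := by
  refine ⟨fun {X Y} m _ => ?_⟩
  refine @NatTrans.mono_of_mono_app _ _ _ _ _ _ _ fun t => ?_
  show Mono (Sigma.desc fun h : c ⟶ t => m ≫ Sigma.ι (fun _ => Y) h)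
  rcases isEmpty_or_nonempty (c ⟶ t) with hE | ⟨⟨h₀⟩⟩
  · exact mono_of_sourceEmpty _
  · have hX : ∀ {Z : A} (a : Z ⟶ ∐ fun _ : c ⟶ t => X),
        a = a ≫ Sigma.desc (fun _ => 𝟙 X) ≫ Sigma.ι (fun _ : c ⟶ t => X) h₀ := fun a => by
      conv_lhs => rw [← Category.comp_id a]
      refine congrArg (a ≫ ·) (Sigma.hom_ext _ _ fun h => ?_)
      rw [Category.comp_id, Sigma.ι_desc_assoc, Category.id_comp, Subsingleton.elim h h₀]
    have hm : (Sigma.desc fun h : c ⟶ t => m ≫ Sigma.ι (fun _ => Y) h) ≫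
        Sigma.desc (fun _ => 𝟙 Y) = Sigma.desc (fun _ => 𝟙 X) ≫ m := by
      ext h
      simp
    refine ⟨fun a b hab => ?_⟩
    have e := congrArg (· ≫ Sigma.desc fun _ : c ⟶ t => 𝟙 Y) hab
    simp only [Category.assoc, hm] at e
    rw [← Category.assoc, ← Category.assoc, cancel_mono] at e
    rw [hX a, hX b, ← Category.assoc, ← Category.assoc, e]

/-- Transition maps of the left adjoints of evaluation. -/
def lanMap (X : A) {c d : P.{v}ᵒᵖ} (f : c ⟶ d) :
    (evaluationLeftAdjoint A d).obj X ⟶ (evaluationLeftAdjoint A c).obj X where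
  app t := Sigma.desc fun h : d ⟶ t => Sigma.ι (fun _ : c ⟶ t => X) (f ≫ h)
  naturality t t' k := by
    show Sigma.desc (fun g : d ⟶ t => Sigma.ι (fun _ : d ⟶ t' => X) (g ≫ k)) ≫
        Sigma.desc (fun h : d ⟶ t' => Sigma.ι (fun _ : c ⟶ t' => X) (f ≫ h)) =
      Sigma.desc (fun h : d ⟶ t => Sigma.ι (fun _ : c ⟶ t => X) (f ≫ h)) ≫
        Sigma.desc (fun g : c ⟶ t => Sigma.ι (fun _ : c ⟶ t' => X) (g ≫ k))
    ext h
    simp

instance mono_lanMap (X : A) {c d : P.{v}ᵒᵖ} (f : c ⟶ d) : Mono (lanMap X f) := by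
  refine @NatTrans.mono_of_mono_app _ _ _ _ _ _ _ fun t => ?_
  show Mono (Sigma.desc fun h : d ⟶ t => Sigma.ι (fun _ : c ⟶ t => X) (f ≫ h))
  rcases isEmpty_or_nonempty (d ⟶ t) with hE | ⟨⟨h₀⟩⟩
  · exact mono_of_sourceEmpty _
  · have e : (Sigma.desc fun h : d ⟶ t => Sigma.ι (fun _ : c ⟶ t => X) (f ≫ h)) ≫
        Sigma.desc (fun _ => Sigma.ι (fun _ : d ⟶ t => X) h₀) = 𝟙 _ := by
      ext h
      rw [Sigma.ι_desc_assoc, Sigma.ι_desc, Category.comp_id, Subsingleton.elim h h₀]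
    exact (SplitMono.mk _ e).mono

/-- The transition maps of an injective diagram are split epimorphisms. -/
theorem exists_section_map (I : P.{v}ᵒᵖ ⥤ A) [Injective I] {c d : P.{v}ᵒᵖ} (f : c ⟶ d) :
    ∃ s : I.obj d ⟶ I.obj c, s ≫ I.map f = 𝟙 _ := by
  let adj := fun e : P.{v}ᵒᵖ => evaluationAdjunctionRight A e
  let u : (evaluationLeftAdjoint A d).obj (I.obj d) ⟶ I := ((adj d).homEquiv _ _).symm (𝟙 _)
  obtain ⟨w, hw⟩ := Injective.factors u (lanMap (I.obj d) f)
  refine ⟨Sigma.ι (fun _ : c ⟶ c => I.obj d) (𝟙 c) ≫ w.app c, ?_⟩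
  have e₁ := congrArg (fun k => Sigma.ι (fun _ : d ⟶ d => I.obj d) (𝟙 d) ≫ NatTrans.app k d) hw
  have e₂ : Sigma.ι (fun _ : d ⟶ d => I.obj d) (𝟙 d) ≫ u.app d = 𝟙 _ := by
    simp [u, adj, evaluationAdjunctionRight, Adjunction.mkOfHomEquiv, Adjunction.homEquiv]
  simp only [NatTrans.comp_app, e₂] at e₁
  have n : (Sigma.desc fun g : c ⟶ c => Sigma.ι (fun _ : c ⟶ d => I.obj d) (g ≫ f)) ≫ w.app d =
      w.app c ≫ I.map f := w.naturality f
  have k : (lanMap (I.obj d) f).app d =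
      Sigma.desc fun h : d ⟶ d => Sigma.ι (fun _ : c ⟶ d => I.obj d) (f ≫ h) := rfl
  rw [k] at e₁
  refine Eq.trans ?_ e₁
  refine Eq.trans (Category.assoc _ _ _) ?_
  refine Eq.trans (congrArg (Sigma.ι (fun _ : c ⟶ c => I.obj d) (𝟙 c) ≫ ·) n.symm) ?_
  refine Eq.trans ((Category.assoc _ _ _).symm.trans
    (congrArg (· ≫ w.app d) (Sigma.ι_desc _ _))) ?_
  have r : Sigma.ι (fun _ : d ⟶ d => I.obj d) (𝟙 d) ≫
      (Sigma.desc fun h : d ⟶ d => Sigma.ι (fun _ : c ⟶ d => I.obj d) (f ≫ h)) =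
      Sigma.ι (fun _ : c ⟶ d => I.obj d) (f ≫ 𝟙 d) := Sigma.ι_desc _ _
  refine Eq.trans ?_ ((congrArg (· ≫ w.app d) r).symm.trans (Category.assoc _ _ _))
  rw [Category.id_comp, Category.comp_id]

/-- Evaluation preserves injective objects. -/
theorem injective_obj (I : P.{v}ᵒᵖ ⥤ A) [Injective I] (c : P.{v}ᵒᵖ) : Injective (I.obj c) :=
  Injective.injective_of_adjoint (evaluationAdjunctionRight A c) I

end Groth.Agent.FilKInj
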