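import Mathlib.Algebra.Homology.HomotopyCategory.KInjective
import Mathlib.Algebra.Homology.HomotopyCategory.DegreewiseSplit
import Mathlib.Algebra.Homology.HomologySequenceLemmas
import Mathlib.Algebra.Homology.HomologicalComplexAbelian
import Mathlib.CategoryTheory.Preadditive.Injective.Basic

/-!
# Degreewise split sequences of complexes of injective objects
-/

set_option autoImplicit false
set_option linter.style.haveILetI false

universe v u

open CategoryTheory Limits HomologicalComplex

noncomputable section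

namespace Groth.Agent.FilKInj

variable {A : Type u} [Category.{v} A] [Abelian A]

theorem isKInjective_X₁_of_split (S : ShortComplex (CochainComplex A ℤ))
    (σ : ∀ n, (S.map (HomologicalComplex.eval A (ComplexShape.up ℤ) n)).Splitting)
    (h₂ : CochainComplex.IsKInjective S.X₂) (h₃ : CochainComplex.IsKInjective S.X₃) :
    CochainComplex.IsKInjective S.X₁ := by
  rw [CochainComplex.isKInjective_iff_rightOrthogonal] at h₂ h₃ ⊢
  exact ObjectProperty.ext_of_isTriangulatedClosed₁ _ (CochainComplex.trianglehOfDegreewiseSplit S σ)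
    ((HomotopyCategory.distinguished_iff_iso_trianglehOfDegreewiseSplit _).2 ⟨S, σ, ⟨Iso.refl _⟩⟩)
    h₂ h₃

theorem isKInjective_X₃_of_split (S : ShortComplex (CochainComplex A ℤ))
    (σ : ∀ n, (S.map (HomologicalComplex.eval A (ComplexShape.up ℤ) n)).Splitting)
    (h₁ : CochainComplex.IsKInjective S.X₁) (h₂ : CochainComplex.IsKInjective S.X₂) :
    CochainComplex.IsKInjective S.X₃ := by
  rw [CochainComplex.isKInjective_iff_rightOrthogonal] at h₁ h₂ ⊢
  exact ObjectProperty.ext_of_isTriangulatedClosed₃ _ (CochainComplex.trianglehOfDegreewiseSplit S σ)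
    ((HomotopyCategory.distinguished_iff_iso_trianglehOfDegreewiseSplit _).2 ⟨S, σ, ⟨Iso.refl _⟩⟩)
    h₁ h₂

/-- Properties of the cokernel of a monomorphism of K-injective complexes of injectives. -/
theorem cokernel_props {X Y : CochainComplex A ℤ} (m : X ⟶ Y) [Mono m]
    (hX : ∀ n, Injective (X.X n)) (hY : ∀ n, Injective (Y.X n))
    (hKX : CochainComplex.IsKInjective X) (hKY : CochainComplex.IsKInjective Y) :
    (∀ n, Injective ((cokernel m).X n) ∧ Injective (cokernel (m.f n))) ∧
      CochainComplex.IsKInjective (cokernel m) := by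
  let S : ShortComplex (CochainComplex A ℤ) := ShortComplex.mk m (cokernel.π m) (cokernel.condition m)
  have hS : S.ShortExact :=
    { exact := S.exact_of_g_is_cokernel (cokernelIsCokernel m) }
  let σ : ∀ n, (S.map (HomologicalComplex.eval A (ComplexShape.up ℤ) n)).Splitting := fun n =>
    haveI : Injective (S.map (HomologicalComplex.eval A (ComplexShape.up ℤ) n)).X₁ := hX n
    (hS.map_of_exact (HomologicalComplex.eval A (ComplexShape.up ℤ) n)).splittingOfInjective
  have h₃ : ∀ n, Injective ((cokernel m).X n) := fun n =>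
    haveI : Injective (S.map (HomologicalComplex.eval A (ComplexShape.up ℤ) n)).X₂ := hY n
    Retract.injective ⟨(σ n).s, _, (σ n).s_g⟩
  refine ⟨fun n => ⟨h₃ n, ?_⟩, isKInjective_X₃_of_split S σ hKX hKY⟩
  exact Injective.of_iso (PreservesCokernel.iso (HomologicalComplex.eval A (ComplexShape.up ℤ) n) m)
    (h₃ n)

/-- The first map of a map of short exact sequences is a quasi-isomorphism if the others are. -/
theorem quasiIso_τ₁ {S₁ S₂ : ShortComplex (CochainComplex A ℤ)}
    (φ : S₁ ⟶ S₂) (hS₁ : S₁.ShortExact) (hS₂ : S₂.ShortExact) (h₂ : QuasiIso φ.τ₂)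
    (h₃ : QuasiIso φ.τ₃) : QuasiIso φ.τ₁ := by
  refine ⟨fun i => (quasiIsoAt_iff_isIso_homologyMap φ.τ₁ i).2 ?_⟩
  have g₂ : ∀ j, IsIso (homologyMap φ.τ₂ j) := fun j =>
    (quasiIsoAt_iff_isIso_homologyMap φ.τ₂ j).1 (h₂.quasiIsoAt j)
  have g₃ : ∀ j, IsIso (homologyMap φ.τ₃ j) := fun j =>
    (quasiIsoAt_iff_isIso_homologyMap φ.τ₃ j).1 (h₃.quasiIsoAt j)
  have r : (ComplexShape.up ℤ).Rel (i - 1) i := by simp
  exact Abelian.isIso_of_epi_of_isIso_of_isIso_of_mono
    (HomologySequence.composableArrows₅_exact hS₁ (i - 1) i r).δ₀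
    (HomologySequence.composableArrows₅_exact hS₂ (i - 1) i r).δ₀
    (ComposableArrows.δ₀Functor.map (HomologySequence.mapComposableArrows₅ φ hS₁ hS₂ (i - 1) i r))
    (@IsIso.epi_of_iso _ _ _ _ _ (g₂ (i - 1))) (g₃ (i - 1)) (g₂ i)
    (@IsIso.mono_of_iso _ _ _ _ _ (g₃ i))

end Groth.Agent.FilKInj
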