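import Groth.Agent.FilKInj.Eval
import Groth.Agent.FilKInj.Split
import Groth.Agent.KInj.Restrict
import Groth.Agent.KInj.Lifting
import Groth.Prelude.Def_SpSeq

/-!
# Filtered K-injective resolutions
-/

set_option autoImplicit false
set_option linter.style.haveILetI false
set_option linter.unusedSectionVars false

universe v u

open CategoryTheory Limits Opposite

noncomputable section

namespace Groth.Agent.FilKInj

variable {A : Type u} [Category.{v} A] [Abelian A] [IsGrothendieckAbelian.{v} A]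

/-- The object of the indexing category. -/
abbrev pt (w : WithTop ℤ) : P.{v}ᵒᵖ := op ⟨w⟩

/-- The arrows of the indexing category. -/
def arr {a b : WithTop ℤ} (h : a ≤ b) : pt.{v} b ⟶ pt a :=
  (homOfLE (show (⟨a⟩ : P.{v}) ≤ ⟨b⟩ from h)).op

variable (K : SpSeq.FilCx A)

/-- The filtration, with zero at the top index. -/
def fil' : WithTop ℤ → Subobject K.obj := WithTop.recTopCoe ⊥ K.fil

theorem fil'_coe (p : ℤ) : fil' K (p : WithTop ℤ) = K.fil p := rfl

theorem fil'_anti : Antitone (fil' K) := by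
  intro a b h
  induction b using WithTop.recTopCoe with
  | top => exact bot_le
  | coe b =>
    induction a using WithTop.recTopCoe with
    | top => exact absurd h (by simp)
    | coe a => exact K.anti (WithTop.coe_le_coe.1 h)

/-- The diagram of quotients. -/
def quotDiagram : P.{v}ᵒᵖ ⥤ CochainComplex A ℤ where
  obj c := cokernel (fil' K c.unop.down).arrow
  map {c d} f := cokernel.desc _ (cokernel.π (fil' K d.unop.down).arrow) (by
    rw [← Subobject.ofLE_arrow (fil'_anti K (show d.unop.down ≤ c.unop.down from f.unop.le)), Category.assoc, cokernel.condition,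
      comp_zero])
  map_id c := by rw [← cancel_epi (cokernel.π (fil' K c.unop.down).arrow)]; simp
  map_comp {c d e} f g := by rw [← cancel_epi (cokernel.π (fil' K c.unop.down).arrow)]; simp

theorem π_quotDiagram_map {c d : P.{v}ᵒᵖ} (f : c ⟶ d) :
    cokernel.π (fil' K c.unop.down).arrow ≫ (quotDiagram K).map f =
      cokernel.π (fil' K d.unop.down).arrow :=
  cokernel.π_desc _ _ _

/-- The complex of diagrams. -/
def diagramCx : CochainComplex (P.{v}ᵒᵖ ⥤ A) ℤ where
  X n := quotDiagram K ⋙ HomologicalComplex.eval A (ComplexShape.up ℤ) n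
  d i j :=
    { app := fun c => ((quotDiagram K).obj c).d i j
      naturality := fun c d f => ((quotDiagram K).map f).comm i j }
  shape i j h := by ext c; exact ((quotDiagram K).obj c).shape i j h
  d_comp_d' i j k _ _ := by ext c; exact ((quotDiagram K).obj c).d_comp_d i j k

/-- Evaluation of complexes of diagrams. -/
abbrev evCx (c : P.{v}ᵒᵖ) : CochainComplex (P.{v}ᵒᵖ ⥤ A) ℤ ⥤ CochainComplex A ℤ :=
  ((evaluation P.{v}ᵒᵖ A).obj c).mapHomologicalComplex (ComplexShape.up ℤ)

/-- The complex of diagrams at a step. -/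
def diagramCxIso (c : P.{v}ᵒᵖ) : (evCx c).obj (diagramCx K) ≅ (quotDiagram K).obj c :=
  HomologicalComplex.Hom.isoOfComponents (fun n => Iso.refl _)
    fun i j _ => (Category.id_comp _).trans (Category.comp_id _).symm

/-- Transition maps. -/
def trans' (L : CochainComplex (P.{v}ᵒᵖ ⥤ A) ℤ) {c d : P.{v}ᵒᵖ} (f : c ⟶ d) :
    (evCx c).obj L ⟶ (evCx d).obj L where
  f n := (L.X n).map f
  comm' i j _ := (L.d i j).naturality f

theorem exists_filtered_resolution :
    ∃ (J : SpSeq.FilCx A) (j : K ⟶ J),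
      (∀ n p : ℤ, Injective (J.obj.X n) ∧ Injective ((J.XFil n).step p) ∧ Injective ((J.XFil n).quot p) ∧
        ∀ (p' : ℤ) (h : p ≤ p'), Injective (cokernel ((J.XFil n).stepLE h))) ∧
      (CochainComplex.IsKInjective J.obj ∧ ∀ p : ℤ, CochainComplex.IsKInjective (J.step p) ∧
        CochainComplex.IsKInjective (J.quot p) ∧
        ∀ (p' : ℤ) (h : p ≤ p'), CochainComplex.IsKInjective (cokernel (J.stepLE h))) ∧
      QuasiIso j.hom ∧
      (∀ p : ℤ, ∃ jp : K.step p ⟶ J.step p, jp ≫ (J.fil p).arrow = (K.fil p).arrow ≫ j.hom ∧ QuasiIso jp ∧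
        (∀ (p' : ℤ) (h : p ≤ p'), ∃ (jp' : K.step p' ⟶ J.step p') (jg : cokernel (K.stepLE h) ⟶ cokernel (J.stepLE h)),
          jp' ≫ (J.fil p').arrow = (K.fil p').arrow ≫ j.hom ∧ jp' ≫ J.stepLE h = K.stepLE h ≫ jp ∧
          cokernel.π (K.stepLE h) ≫ jg = jp ≫ cokernel.π (J.stepLE h) ∧ QuasiIso jg)) ∧
      (∀ p : ℤ, ∃ jq : K.quot p ⟶ J.quot p,
        cokernel.π (K.fil p).arrow ≫ jq = j.hom ≫ cokernel.π (J.fil p).arrow ∧ QuasiIso jq) := by
  haveI := isGrothendieckAbelian_diagrams (A := A)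
  obtain ⟨L, φ, hKI, hq, -, hinj⟩ := KInj.exists_isKInjective_resolution (diagramCx K)
  -- the values at each step
  have hKc : ∀ c, CochainComplex.IsKInjective ((evCx c).obj L) := fun c =>
    KInj.isKInjective_map_of_adjunction (evaluationAdjunctionRight A c) L
  have hIc : ∀ c n, Injective (((evCx c).obj L).X n) := fun c n =>
    haveI := hinj n
    injective_obj (L.X n) c
  let Φ : ∀ c, (quotDiagram K).obj c ⟶ (evCx c).obj L := fun c =>
    (diagramCxIso K c).inv ≫ (evCx c).map φ
  have hΦq : ∀ c, QuasiIso (Φ c) := fun c => by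
    haveI := hq
    haveI : QuasiIso ((evCx c).map φ) := HomologicalComplex.quasiIso_map_of_preservesHomology φ _
    infer_instance
  have hΦn : ∀ {c d} (f : c ⟶ d), (quotDiagram K).map f ≫ Φ d = Φ c ≫ trans' L f := fun {c d} f => by
    ext n
    show ((quotDiagram K).map f).f n ≫ 𝟙 _ ≫ (φ.f n).app d = (𝟙 _ ≫ (φ.f n).app c) ≫ (L.X n).map f
    simp only [Category.id_comp]
    first
      | exact (φ.f n).naturality f
      | exact (congrArg (((quotDiagram K).map f).f n ≫ ·) (Category.id_comp _)).trans ((φ.f n).naturality f)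
  let O := (evCx (pt ⊤)).obj L
  let ψ : ∀ p : ℤ, O ⟶ (evCx (pt (p : WithTop ℤ))).obj L := fun p => trans' L (arr le_top)
  let fl : ℤ → Subobject O := fun p => kernelSubobject (ψ p)
  have hanti : Antitone fl := fun p q h => by
    have e : ψ p = ψ q ≫ trans' L (arr (WithTop.coe_le_coe.2 h)) := by
      ext n
      refine Eq.trans ?_ ((L.X n).map_comp _ _)
      rfl
    show kernelSubobject (ψ q) ≤ kernelSubobject (ψ p)
    rw [e]
    exact kernelSubobject_comp_le _ _
  let J : SpSeq.FilCx A := ⟨O, fl, hanti⟩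
  have hsec : ∀ p n, ∃ s, s ≫ (ψ p).f n = 𝟙 _ := fun p n =>
    haveI := hinj n
    exists_section_map (L.X n) (arr le_top)
  have hψepi : ∀ p, Epi (ψ p) := fun p => by
    haveI : ∀ n, Epi ((ψ p).f n) := fun n => by
      obtain ⟨s, hs⟩ := hsec p n
      exact (SplitEpi.mk s hs).epi
    exact HomologicalComplex.epi_of_epi_f _ inferInstance
  let T : ℤ → ShortComplex (CochainComplex A ℤ) := fun p =>
    ShortComplex.mk (fl p).arrow (ψ p) (kernelSubobject_arrow_comp _)
  have hT : ∀ p, (T p).ShortExact := fun p => by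
    haveI : Mono (T p).f := inferInstanceAs (Mono (fl p).arrow)
    haveI : Epi (T p).g := hψepi p
    exact { exact := (T p).exact_of_f_is_kernel (KernelFork.IsLimit.ofι' _ _ fun k hk =>
      ⟨factorThruKernelSubobject (ψ p) k hk, factorThruKernelSubobject_comp_arrow _ _ _⟩) }
  let σ : ∀ p n, ((T p).map (HomologicalComplex.eval A (ComplexShape.up ℤ) n)).Splitting := fun p n =>
    ShortComplex.Splitting.ofExactOfSection ((T p).map (HomologicalComplex.eval A (ComplexShape.up ℤ) n))
      ((hT p).map_of_exact _).exact (hsec p n).choose (hsec p n).choose_spec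
      ((hT p).map_of_exact _).mono_f
  have hstep : ∀ p n, Injective ((J.step p).X n) := fun p n =>
    haveI : Injective ((T p).map (HomologicalComplex.eval A (ComplexShape.up ℤ) n)).X₂ := hIc _ n
    Retract.injective ⟨_, (σ p n).r, (σ p n).f_r⟩
  have hKstep : ∀ p, CochainComplex.IsKInjective (J.step p) := fun p =>
    isKInjective_X₁_of_split (T p) (σ p) (hKc _) (hKc _)
  have hquot : ∀ p, (∀ n, Injective ((cokernel (J.fil p).arrow).X n) ∧
      Injective (cokernel ((J.fil p).arrow.f n))) ∧ CochainComplex.IsKInjective (J.quot p) :=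
    fun p => cokernel_props _ (hstep p) (hIc _) (hKstep p) (hKc _)
  have hle : ∀ {p p'} (h : p ≤ p'), (∀ n, Injective ((cokernel (J.stepLE h)).X n) ∧
      Injective (cokernel ((J.stepLE h).f n))) ∧ CochainComplex.IsKInjective (cokernel (J.stepLE h)) :=
    fun h => cokernel_props _ (hstep _) (hstep _) (hKstep _) (hKstep _)
  -- the morphism
  let f : K.obj ⟶ J.obj := cokernel.π (fil' K ⊤).arrow ≫ Φ (pt ⊤)
  have hfψ : ∀ p, f ≫ ψ p = cokernel.π (K.fil p).arrow ≫ Φ (pt (p : WithTop ℤ)) := fun p =>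
    (Category.assoc _ _ _).trans (((congrArg (cokernel.π (fil' K ⊤).arrow ≫ ·)
      (hΦn (arr le_top)).symm)).trans ((Category.assoc _ _ _).symm.trans
        (congrArg (· ≫ Φ (pt (p : WithTop ℤ))) (π_quotDiagram_map K (arr le_top)))))
  have hzero : ∀ p, ((K.fil p).arrow ≫ f) ≫ ψ p = 0 := fun p => by
    rw [Category.assoc, hfψ]
    exact (Category.assoc _ _ _).symm.trans
      ((congrArg (· ≫ Φ (pt (p : WithTop ℤ))) (cokernel.condition _)).trans zero_comp)
  let jp : ∀ p, K.step p ⟶ J.step p := fun p =>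
    factorThruKernelSubobject (ψ p) ((K.fil p).arrow ≫ f) (hzero p)
  have hjp : ∀ p, jp p ≫ (J.fil p).arrow = (K.fil p).arrow ≫ f := fun p =>
    factorThruKernelSubobject_comp_arrow _ _ _
  let j : K ⟶ J := ⟨f, fun p => Subobject.le_of_comm
    (((Subobject.pullback f).obj (J.fil p)).factorThru (K.fil p).arrow
      ((pullback_factors_iff _ _ _).2 ((hjp p) ▸ Subobject.factors_comp_arrow (jp p)))) (Subobject.factorThru_arrow _ _ _)⟩
  have hf : QuasiIso f := by
    haveI := hΦq (pt ⊤)
    haveI : IsIso (cokernel.π (fil' K ⊤).arrow) :=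
      (cokernel.π_of_zero (by rw [show fil' K ⊤ = ⊥ from rfl, Subobject.bot_arrow]))
    haveI : QuasiIso (cokernel.π (fil' K ⊤).arrow) := inferInstance
    exact (quasiIso_iff_comp_left (cokernel.π (fil' K ⊤).arrow) (Φ (pt ⊤))).2 (hΦq _)
  let S : ℤ → ShortComplex (CochainComplex A ℤ) := fun p =>
    ShortComplex.mk (K.fil p).arrow (cokernel.π (K.fil p).arrow) (cokernel.condition _)
  have hS : ∀ p, (S p).ShortExact := fun p =>
    { exact := (S p).exact_of_g_is_cokernel (cokernelIsCokernel _) }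
  let χ : ∀ p, S p ⟶ T p := fun p =>
    { τ₁ := jp p
      τ₂ := f
      τ₃ := Φ (pt (p : WithTop ℤ))
      comm₁₂ := hjp p
      comm₂₃ := hfψ p }
  have hjpq : ∀ p, QuasiIso (jp p) := fun p =>
    quasiIso_τ₁ (χ p) (hS p) (hT p) hf (hΦq _)
  refine ⟨J, j, fun n p => ⟨hIc _ n, ?_, ?_, fun p' h => ?_⟩,
    ⟨hKc _, fun p => ⟨hKstep p, (hquot p).2, fun p' h => (hle h).2⟩⟩, hf, fun p => ?_, fun p => ?_⟩
  · exact Injective.of_iso (Subobject.underlyingIso ((J.fil p).arrow.f n)).symm (hstep p n)
  · refine Injective.of_iso (cokernel.mapIso ((J.fil p).arrow.f n) (J.filX p n).arrow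
      (Subobject.underlyingIso ((J.fil p).arrow.f n)).symm (Iso.refl _) ?_) ((hquot p).1 n).2
    rw [Iso.refl_hom, Category.comp_id]
    exact (Subobject.underlyingIso_arrow _).symm
  · refine Injective.of_iso (cokernel.mapIso ((J.stepLE h).f n) ((J.XFil n).stepLE h)
      (Subobject.underlyingIso ((J.fil p').arrow.f n)).symm
      (Subobject.underlyingIso ((J.fil p).arrow.f n)).symm ?_) ((hle h).1 n).2
    refine (cancel_mono (J.filX p n).arrow).1 ?_
    refine (Category.assoc _ _ _).trans (Eq.trans ?_ (Category.assoc _ _ _).symm)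
    refine (congrArg ((J.stepLE h).f n ≫ ·)
      (Subobject.underlyingIso_arrow ((J.fil p).arrow.f n))).trans ?_
    refine Eq.trans ?_ (congrArg ((Subobject.underlyingIso ((J.fil p').arrow.f n)).inv ≫ ·)
      (Subobject.ofLE_arrow (X := J.filX p' n) (Y := J.filX p n) (J.filX_anti n h)).symm)
    exact (HomologicalComplex.comp_f _ _ n).symm.trans
      ((congrArg (fun k => HomologicalComplex.Hom.f k n) (Subobject.ofLE_arrow _)).trans
        (Subobject.underlyingIso_arrow _).symm)
  · refine ⟨jp p, hjp p, hjpq p, fun p' h => ?_⟩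
    have hcomm : jp p' ≫ J.stepLE h = K.stepLE h ≫ jp p := by
      rw [← cancel_mono (J.fil p).arrow, Category.assoc, Category.assoc, hjp, Subobject.ofLE_arrow,
        hjp, Subobject.ofLE_arrow_assoc]
    let U : SpSeq.FilCx A → ShortComplex (CochainComplex A ℤ) := fun F =>
      ShortComplex.mk (F.stepLE h) (cokernel.π (F.stepLE h)) (cokernel.condition _)
    have hU : ∀ F, (U F).ShortExact := fun F =>
      { exact := (U F).exact_of_g_is_cokernel (cokernelIsCokernel _) }
    let μ : U K ⟶ U J :=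
      { τ₁ := jp p'
        τ₂ := jp p
        τ₃ := cokernel.map _ _ (jp p') (jp p) hcomm.symm
        comm₁₂ := hcomm
        comm₂₃ := (cokernel.π_desc _ _ _).symm }
    exact ⟨jp p', μ.τ₃, hjp p', hcomm, cokernel.π_desc _ _ _,
      HomologicalComplex.HomologySequence.quasiIso_τ₃ μ (hU K) (hU J) (hjpq p') (hjpq p)⟩
  · let W : ShortComplex (CochainComplex A ℤ) :=
      ShortComplex.mk (J.fil p).arrow (cokernel.π (J.fil p).arrow) (cokernel.condition _)
    have hW : W.ShortExact := { exact := W.exact_of_g_is_cokernel (cokernelIsCokernel _) }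
    let μ : S p ⟶ W :=
      { τ₁ := jp p
        τ₂ := f
        τ₃ := cokernel.map _ _ (jp p) f (hjp p).symm
        comm₁₂ := hjp p
        comm₂₃ := (cokernel.π_desc _ _ _).symm }
    exact ⟨μ.τ₃, cokernel.π_desc _ _ _,
      HomologicalComplex.HomologySequence.quasiIso_τ₃ μ (hS p) hW (hjpq p) hf⟩

end Groth.Agent.FilKInj
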